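/-
helper37, project BHRSU5: the row S5796 (maximal subgroups of SU_5(q)).  Its only exception not covered by project BHRSU is
`q = 2`, class 3: the normaliser `11:5` of a degree-5 field in `SU_5(2)` is not maximal (it lies in `L_2(11)`).
Definitions only: the concrete model over the computable field `F4c` with four elements.

`Zc` (order 11), `Pc` (a 5-cycle of coordinates, `Pc Zc Pc⁻¹ = Zc⁴`) and `Sc` (the coordinate permutation (0 3)(1 2)) generate a copy of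
`L_2(11)` in `SU_5(2)` (standard form `Σ uᵢ vᵢ²`); `X66` is the orbit of the vector `(1,1,1,1,1)` under that group (66 vectors);
`Tc` (the transposition (3 4)) does not preserve `X66`.
-/
import Mathlib
import Cfsg.Prelude.Def_GeometricClasses
import Cfsg.Prelude.Def_ClassicalGeometry
import Cfsg.Agent.Lib.Helper56.F4
import Cfsg.Agent.Lib.Helper37.BHRSU.Defs

set_option autoImplicit false

namespace Cfsg.Agent.Lib.Helper37.BHRSU5

open Cfsg Cfsg.Geo Cfsg.Agent.Lib.Helper37.BHRSU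
open Cfsg.Agent.Lib.Helper56.F4 (w v)
open scoped MatrixGroups Matrix

/-- the computable field with four elements: `0, 1, w, v = w² = w + 1` -/
abbrev F4c := Cfsg.Agent.Lib.Helper56.F4

/-- `5 × 5` matrices over `F4c` -/
abbrev M5 := Matrix (Fin 5) (Fin 5) F4c

/-- an element of order 11 of `SU_5(2)` (symmetric, unitary) -/
def Zc : M5 := !![0, w, 1, w, 0; w, v, 1, 1, 1; 1, 1, 1, v, v; w, 1, v, 0, 0; 0, 1, v, 0, 1]

/-- the cyclic permutation of the coordinates, `Pc * Zc = Zc ^ 4 * Pc` -/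
def Pc : M5 := !![0, 0, 0, 0, 1; 1, 0, 0, 0, 0; 0, 1, 0, 0, 0; 0, 0, 1, 0, 0; 0, 0, 0, 1, 0]

/-- the coordinate permutation (0 3)(1 2): the extra generator of `L_2(11)` -/
def Sc : M5 := !![0, 0, 0, 1, 0; 0, 0, 1, 0, 0; 0, 1, 0, 0, 0; 1, 0, 0, 0, 0; 0, 0, 0, 0, 1]

/-- the coordinate transposition (3 4): in `SU_5(2)`, not in the stabiliser of `X66` -/
def Tc : M5 := !![1, 0, 0, 0, 0; 0, 1, 0, 0, 0; 0, 0, 1, 0, 0; 0, 0, 0, 0, 1; 0, 0, 0, 1, 0]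

/-- the matrix with columns `Zc ^ j *ᵥ e₀`, `j < 5` (so `e₀` is a cyclic vector of `Zc`) -/
def Cc : M5 := !![1, 0, 1, v, 1; 0, w, w, 1, 0; 0, 1, w, 1, 1; 0, w, 1, 1, v; 0, 0, 1, w, 0]

/-- the inverse of `Cc` -/
def Cci : M5 := !![1, 1, v, v, 1; 0, w, 1, w, v; 0, w, w, v, w; 0, 1, 1, w, w; 0, 0, w, 1, w]

/-- `g₁(x) = x⁵ + v x⁴ + x³ + x² + w x + 1`, a factor of `x¹¹ - 1` over `F4c`, evaluated in an `F4c`-algebra -/
def g1 {A : Type*} [Ring A] [Algebra F4c A] (x : A) : A :=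
  x ^ 5 + (v : F4c) • x ^ 4 + x ^ 3 + x ^ 2 + (w : F4c) • x + 1

/-- `g₂(x) = x⁵ + w x⁴ + x³ + x² + v x + 1`: the conjugate and the reciprocal of `g₁`; `(x - 1) g₁ g₂ = x¹¹ - 1` -/
def g2 {A : Type*} [Ring A] [Algebra F4c A] (x : A) : A :=
  x ^ 5 + (w : F4c) • x ^ 4 + x ^ 3 + x ^ 2 + (v : F4c) • x + 1

/-- unitary for the standard form `Σ uᵢ vᵢ²`: `Mᵀ * M̄ = 1` (this is `Cfsg.Agent.Lib.Helper5.IsUnitaryMat 2 M`) -/
def IsU (M : M5) : Prop := Mᵀ * M.map (· ^ 2) = 1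

instance (M : M5) : Decidable (IsU M) := by unfold IsU; infer_instance

/-- the conjugate transpose -/
def hc (M : M5) : M5 := (M.map (· ^ 2))ᵀ

/-- the orbit of `(1,1,1,1,1)` under `⟨Zc, Pc, Sc⟩ ≅ L_2(11)`: 66 vectors -/
def X66 : Finset (Fin 5 → F4c) :=
  {![0,0,0,0,1], ![0,0,0,1,0], ![0,0,1,0,0], ![0,0,w,1,w], ![0,0,w,1,v], ![0,0,v,1,w], ![0,0,v,1,v], ![0,1,0,0,0],
   ![0,1,0,1,w], ![0,1,0,1,v], ![0,1,0,w,1], ![0,1,0,v,1], ![0,1,w,0,1], ![0,1,v,0,1], ![0,w,1,0,1], ![0,w,1,w,0],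
   ![0,w,1,v,0], ![0,v,1,0,1], ![0,v,1,w,0], ![0,v,1,v,0], ![1,0,0,0,0], ![1,0,1,0,w], ![1,0,1,0,v], ![1,0,1,w,0],
   ![1,0,1,v,0], ![1,0,w,1,0], ![1,0,v,1,0], ![1,1,1,1,1], ![1,1,1,w,w], ![1,1,1,w,v], ![1,1,1,v,w], ![1,1,1,v,v],
   ![1,1,w,w,1], ![1,1,w,v,1], ![1,1,v,w,1], ![1,1,v,v,1], ![1,w,0,0,w], ![1,w,0,0,v], ![1,w,0,1,0], ![1,w,w,1,1],
   ![1,w,v,1,1], ![1,v,0,0,w], ![1,v,0,0,v], ![1,v,0,1,0], ![1,v,w,1,1], ![1,v,v,1,1], ![w,0,0,w,1], ![w,0,0,v,1],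
   ![w,0,1,0,1], ![w,1,0,1,0], ![w,1,1,1,w], ![w,1,1,1,v], ![w,1,w,0,0], ![w,1,v,0,0], ![w,w,1,1,1], ![w,v,1,1,1],
   ![v,0,0,w,1], ![v,0,0,v,1], ![v,0,1,0,1], ![v,1,0,1,0], ![v,1,1,1,w], ![v,1,1,1,v], ![v,1,w,0,0], ![v,1,v,0,0],
   ![v,w,1,1,1], ![v,v,1,1,1]}

/-- the stabiliser of the set `X66` of vectors in `GL_5(4)` -/
def stabX : Subgroup (GL (Fin 5) F4c) where
  carrier := {g | ∀ x : Fin 5 → F4c, (g : M5) *ᵥ x ∈ X66 ↔ x ∈ X66}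
  one_mem' := by intro x; simp
  mul_mem' := by
    intro a b ha hb x
    rw [Units.val_mul, ← Matrix.mulVec_mulVec, ha, hb]
  inv_mem' := by
    intro a ha x
    rw [← ha ((a⁻¹ : GL (Fin 5) F4c) *ᵥ x), Matrix.mulVec_mulVec, ← Units.val_mul, mul_inv_cancel, Units.val_one,
      Matrix.one_mulVec]

set_option maxRecDepth 100000 in
/-- `Zc` as an element of `GL_5(4)` -/
def ZG : GL (Fin 5) F4c := ⟨Zc, Zc ^ 10, by decide, by decide⟩

set_option maxRecDepth 100000 in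
/-- `Pc` as an element of `GL_5(4)` -/
def PG : GL (Fin 5) F4c := ⟨Pc, Pc ^ 4, by decide, by decide⟩

set_option maxRecDepth 100000 in
/-- `Sc` as an element of `GL_5(4)` -/
def SG : GL (Fin 5) F4c := ⟨Sc, Sc, by decide, by decide⟩

set_option maxRecDepth 100000 in
/-- `Tc` as an element of `GL_5(4)` -/
def TG : GL (Fin 5) F4c := ⟨Tc, Tc, by decide, by decide⟩

/-- the standard degree-5 field `F4c[Zc]` -/
def K0 : Subalgebra F4c M5 := Algebra.adjoin F4c {Zc}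

end Cfsg.Agent.Lib.Helper37.BHRSU5
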