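/-
BHRSU5-[A1B] (helper37, hedge): a root `ζ ∈ K` of `g₁` with `ζ¹¹ = 1` in an adjoint-closed degree-5 field `K ≤ M_5(F_4)` is unitary.
-/
import Mathlib
import Cfsg.Prelude.Def_GeometricClasses
import Cfsg.Prelude.Def_ClassicalGeometry
import Cfsg.Agent.Lib.Helper37.BHRSU5.Defs
import Cfsg.Agent.Lib.Helper36.Bhrsu5UCrit

set_option autoImplicit false

namespace Cfsg.Agent.Lib.Helper37.BHRSU5

open Cfsg Cfsg.Geo Cfsg.Agent.Lib.Helper37.BHRSU
open Cfsg.Agent.Lib.Helper56.F4 (w v)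
open scoped MatrixGroups Matrix

namespace A1B

theorem hc_pow (M : M5) (n : ℕ) : hc (M ^ n) = hc M ^ n := by
  induction n with
  | zero => rw [pow_zero, pow_zero, hc_one]
  | succ n ih => rw [pow_succ, hc_mul, ih, ← pow_succ']

theorem hc_zero : hc (0 : M5) = 0 := by
  have := hc_add 0 0
  rw [add_zero] at this
  exact left_eq_add.mp this

/-- `hc (g₁ x) = g₂ (hc x)` -/
theorem hc_g1 (x : M5) : hc (g1 x) = g2 (hc x) := by
  unfold g1 g2
  rw [hc_add, hc_add, hc_add, hc_add, hc_add, hc_smul, hc_smul, hc_pow, hc_pow, hc_pow, hc_pow, hc_one]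
  have h1 : (v : F4c) ^ 2 = w := by decide
  have h2 : (w : F4c) ^ 2 = v := by decide
  rw [h1, h2]

theorem two_smul_zero (x : M5) : x + x = 0 := by
  have h : (2 : F4c) = 0 := by decide
  rw [← two_smul F4c x, h, zero_smul]

set_option maxRecDepth 100000 in
theorem g1_one_ne : g1 (1 : M5) ≠ 0 := by decide

/-- `g₁ x = 0` and `g₂ x = 0` give `x ^ 4 + x = 0` -/
theorem pow_four_add_of_g1_g2 (x : M5) (h1 : g1 x = 0) (h2 : g2 x = 0) : x ^ 4 + x = 0 := by
  have h : g1 x + g2 x = 0 := by rw [h1, h2, add_zero]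
  unfold g1 g2 at h
  have hvw : (v : F4c) + w = 1 := by decide
  have e : x ^ 5 + (v : F4c) • x ^ 4 + x ^ 3 + x ^ 2 + (w : F4c) • x + 1 +
      (x ^ 5 + (w : F4c) • x ^ 4 + x ^ 3 + x ^ 2 + (v : F4c) • x + 1) =
      (x ^ 5 + x ^ 5) + (x ^ 3 + x ^ 3) + (x ^ 2 + x ^ 2) + (1 + 1) + (((v : F4c) + w) • x ^ 4 + ((v : F4c) + w) • x) := by
    rw [add_smul, add_smul]
    abel
  rw [e, two_smul_zero (x ^ 5), two_smul_zero (x ^ 3), two_smul_zero (x ^ 2), two_smul_zero (1 : M5), hvw, one_smul,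
    one_smul] at h
  simpa using h

end A1B

open A1B

/-- BHRSU5-[A1B] -/
theorem isU_of_root (K : Subalgebra F4c M5) (hK : IsFieldSubalgebra 5 K)
    (hac : IsAdjointClosedFor (hermForm 5 F4c 2) K) (ζ : M5) (hζ : ζ ∈ K) (h11 : ζ ^ 11 = 1) (h : g1 ζ = 0) : IsU ζ := by
  classical
  rw [isU_iff_hc]
  -- `hc` maps `K` to `K`
  have hτ : ∀ k ∈ K, hc k ∈ K := by
    intro k hk
    obtain ⟨k', hk', hadj⟩ := hac k hk
    rw [← eq_hc_of_adjoint k k' hadj]
    exact hk'
  set y := hc ζ with hy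
  have hyK : y ∈ K := hτ ζ hζ
  have hy11 : y ^ 11 = 1 := by rw [hy, ← hc_pow, h11, hc_one]
  have hg2y : g2 y = 0 := by rw [hy, ← hc_g1, h, hc_zero]
  have hζ1 : ζ ≠ 1 := by
    rintro rfl
    exact g1_one_ne h
  -- the domain structure on `K`
  let _ : CommRing ↥K :=
    { (inferInstance : Ring ↥K) with mul_comm := fun a b => Subtype.ext (hK.comm a a.2 b b.2) }
  have hnzd : NoZeroDivisors ↥K := by
    constructor
    intro a b hab
    by_cases ha : a = 0
    · exact Or.inl ha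
    right
    have ha' : (a : M5) ≠ 0 := fun h0 => ha (Subtype.ext h0)
    obtain ⟨c, hc', hac'⟩ := hK.inv a a.2 ha'
    have h1 : (⟨c, hc'⟩ : ↥K) * a = 1 := by
      rw [mul_comm]
      exact Subtype.ext hac'
    calc b = 1 * b := (one_mul b).symm
      _ = (⟨c, hc'⟩ * a) * b := by rw [h1]
      _ = ⟨c, hc'⟩ * (a * b) := mul_assoc _ _ _
      _ = 0 := by rw [hab, mul_zero]
  have hnt : Nontrivial ↥K := ⟨⟨0, 1, fun h01 => by
    have := congrArg (fun x : ↥K => (x : M5) 0 0) h01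
    simp at this⟩⟩
  have hdom : IsDomain ↥K := NoZeroDivisors.to_isDomain _
  -- roots of unity of order 11 in `K`
  let ζK : ↥K := ⟨ζ, hζ⟩
  let yK : ↥K := ⟨y, hyK⟩
  have hζK11 : ζK ^ 11 = 1 := Subtype.ext h11
  have hyK11 : yK ^ 11 = 1 := Subtype.ext hy11
  have hζK1 : ζK ≠ 1 := fun h1 => hζ1 (congrArg Subtype.val h1)
  have hord : orderOf ζK = 11 := by
    have hdvd : orderOf ζK ∣ 11 := orderOf_dvd_of_pow_eq_one hζK11
    rcases (Nat.dvd_prime (by norm_num : Nat.Prime 11)).mp hdvd with h1 | h1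
    · exact absurd (orderOf_eq_one_iff.mp h1) hζK1
    · exact h1
  obtain ⟨i, hi⟩ : ∃ i : Fin 11, yK = ζK ^ (i : ℕ) := by
    have hsub : (Finset.univ.image fun i : Fin 11 => ζK ^ (i : ℕ)) ⊆ Polynomial.nthRootsFinset 11 (1 : ↥K) := by
      intro x hx
      obtain ⟨i, -, rfl⟩ := Finset.mem_image.mp hx
      rw [Polynomial.mem_nthRootsFinset (by norm_num) 1, ← pow_mul, mul_comm, pow_mul, hζK11, one_pow]
    have hinj : Function.Injective (fun i : Fin 11 => ζK ^ (i : ℕ)) := by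
      intro a b hab
      have := pow_injOn_Iio_orderOf (x := ζK) (by rw [hord]; exact a.2) (by rw [hord]; exact b.2) hab
      exact Fin.ext this
    have hcard : (Finset.univ.image fun i : Fin 11 => ζK ^ (i : ℕ)).card = 11 := by
      rw [Finset.card_image_of_injective _ hinj, Finset.card_univ, Fintype.card_fin]
    have hle : (Polynomial.nthRootsFinset 11 (1 : ↥K)).card ≤ 11 := by
      rw [Polynomial.nthRootsFinset_def]
      exact (Multiset.toFinset_card_le _).trans (Polynomial.card_nthRoots 11 1)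
    have heq := Finset.eq_of_subset_of_card_le hsub (by rw [hcard]; exact hle)
    have hmem : yK ∈ Polynomial.nthRootsFinset 11 (1 : ↥K) := by
      rw [Polynomial.mem_nthRootsFinset (by norm_num) 1]
      exact hyK11
    rw [← heq] at hmem
    obtain ⟨i, -, hi⟩ := Finset.mem_image.mp hmem
    exact ⟨i, hi.symm⟩
  have hyi : y = ζ ^ (i : ℕ) := by
    have := congrArg Subtype.val hi
    simpa using this
  -- `hc y = ζ`
  have hcy : hc y = ζ := by rw [hy, hc_hc]
  have hsq : ζ ^ ((i : ℕ) * (i : ℕ)) = ζ := by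
    have h1 : hc y = y ^ (i : ℕ) := by
      conv_lhs => rw [hyi]
      rw [hc_pow]
    rw [hcy] at h1
    rw [pow_mul, ← hyi]
    exact h1.symm
  -- powers of `ζ`
  have hinjpow : ∀ a b : ℕ, a < 11 → b < 11 → ζ ^ a = ζ ^ b → a = b := by
    intro a b ha hb hab
    have hab' : ζK ^ a = ζK ^ b := Subtype.ext hab
    exact pow_injOn_Iio_orderOf (x := ζK) (by rw [hord]; exact ha) (by rw [hord]; exact hb) hab'
  have hred : ∀ n : ℕ, ζ ^ n = ζ ^ (n % 11) := by
    intro n
    conv_lhs => rw [← Nat.mod_add_div n 11]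
    rw [pow_add, pow_mul, h11, one_pow, mul_one]
  -- so `i * i ≡ 1 (mod 11)`
  have hmod : (i : ℕ) * (i : ℕ) % 11 = 1 := by
    apply hinjpow _ _ (Nat.mod_lt _ (by norm_num)) (by norm_num)
    rw [← hred, pow_one]
    exact hsq
  have hi' : (i : ℕ) = 1 ∨ (i : ℕ) = 10 := by
    have : ∀ j : Fin 11, (j : ℕ) * (j : ℕ) % 11 = 1 → (j : ℕ) = 1 ∨ (j : ℕ) = 10 := by decide
    exact this i hmod
  rcases hi' with hi1 | hi10
  · -- `y = ζ`: impossible
    exfalso
    rw [hi1, pow_one] at hyi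
    rw [hyi] at hg2y
    have h4 := pow_four_add_of_g1_g2 ζ h hg2y
    have h4' : ζ ^ 4 = ζ ^ 1 := by
      have := congrArg (fun t => t + ζ) h4
      simp only [zero_add] at this
      rw [add_assoc, two_smul_zero, add_zero] at this
      rw [pow_one]
      exact this
    have := hinjpow 4 1 (by norm_num) (by norm_num) h4'
    omega
  · rw [hyi, hi10, ← pow_succ, h11]

end Cfsg.Agent.Lib.Helper37.BHRSU5
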