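/-
BHRSU5-[A2C] (helper37, hedge): the conjugating matrix can be taken unitary.
DUPLICATE of helper36's `Lib/Helper36/Bhrsu5A2C.lean` (which landed first and is the official copy); this one lives in the
sub-namespace `A2Ch37` so that the two files can be imported together without a name clash.
-/
import Mathlib
import Cfsg.Prelude.Def_GeometricClasses
import Cfsg.Prelude.Def_ClassicalGeometry
import Cfsg.Agent.Lib.Helper37.BHRSU5.Defs
import Cfsg.Agent.Lib.Helper37.BHRSU5.A1B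
import Cfsg.Agent.Lib.Helper37.GUConj
import Cfsg.Agent.Lib.Helper34.Bhrsu5A2Exact
import Cfsg.Agent.Lib.Helper73.Bhrsu5CFacts

set_option autoImplicit false

namespace Cfsg.Agent.Lib.Helper37.BHRSU5

open Cfsg Cfsg.Geo Cfsg.Agent.Lib.Helper37.BHRSU
open scoped MatrixGroups Matrix

namespace A2Ch37

/-- BHRSU5-[A2C] -/
theorem exists_gu_conj (K : Subalgebra F4c M5) (hK : IsFieldSubalgebra 5 K)
    (hac : IsAdjointClosedFor (hermForm 5 F4c 2) K) (ζ : M5) (hζ : ζ ∈ K) (h11 : ζ ^ 11 = 1) (h : g1 ζ = 0) :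
    ∃ u : GL (Fin 5) F4c, u ∈ GU 5 F4c 2 ∧ (u : M5) * Zc = ζ * (u : M5) := by
  obtain ⟨P, hP⟩ := exists_gl_conj K hK ζ hζ h11 h
  have hζU : IsU ζ := isU_of_root K hK hac ζ hζ h11 h
  have hPdet : IsUnit (P : M5).det := by
    have := (Matrix.isUnit_iff_isUnit_det (P : M5)).mp P.isUnit
    exact this
  obtain ⟨u, hu, hconj⟩ := Cfsg.Agent.Lib.Helper37.GUConj.exists_unitary_conj (q := 2) card_F4c_eq Zc ζ (P : M5)
    isU_Zc hζU hPdet hP
  have hu' : IsU u := hu
  have hudet : IsUnit u.det := by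
    have h1 : hc u * u = 1 := (isU_iff_hc u).mp hu'
    have h2 := congrArg Matrix.det h1
    rw [Matrix.det_mul, Matrix.det_one] at h2
    exact IsUnit.of_mul_eq_one _ (by rw [mul_comm]; exact h2)
  let uG : GL (Fin 5) F4c := Matrix.GeneralLinearGroup.mk'' u hudet
  refine ⟨uG, (mem_GU_iff_isU uG).mpr hu', hconj⟩

end A2Ch37

end Cfsg.Agent.Lib.Helper37.BHRSU5
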