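/-
BHRSU5-[ASM-C] (helper37), `_of` form: over `F4c`, the normaliser of an adjoint-closed degree-5 field in `SU_5(2)` is not maximal.
Hypotheses = the Skel statements of [A2C] (`exists_gu_conj`) and [B4] (`between_K0`); [A1A] (helper36), [A2A] (helper34), [A3] (helper66) are imported.
-/
import Mathlib
import Cfsg.Prelude.Def_GeometricClasses
import Cfsg.Prelude.Def_ClassicalGeometry
import Cfsg.Agent.Lib.Helper37.BHRSU5.Defs
import Cfsg.Agent.Lib.Helper36.Bhrsu5A1A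
import Cfsg.Agent.Lib.Helper34.Bhrsu5A2Exact
import Cfsg.Agent.Lib.Helper66.Bhrsu5A3

set_option autoImplicit false

namespace Cfsg.Agent.Lib.Helper37.BHRSU5

open Cfsg Cfsg.Geo Cfsg.Agent.Lib.Helper37.BHRSU Cfsg.Agent.Lib.Helper70.AschU
open scoped MatrixGroups Matrix

/-- a group isomorphism preserves strict inclusions -/
theorem map_lt_map_equiv {G G' : Type*} [Group G] [Group G'] (e : G ≃* G') {A B : Subgroup G} (h : A < B) :
    A.map e.toMonoidHom < B.map e.toMonoidHom := by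
  refine lt_of_le_of_ne (Subgroup.map_mono h.le) ?_
  intro heq
  apply h.ne
  exact Subgroup.map_injective e.injective heq

theorem map_inf_equiv' {G G' : Type*} [Group G] [Group G'] (e : G ≃* G') (A B : Subgroup G) :
    (A ⊓ B).map e.toMonoidHom = A.map e.toMonoidHom ⊓ B.map e.toMonoidHom :=
  Subgroup.map_inf A B e.toMonoidHom e.injective

/-- BHRSU5-[ASM-C], `_of` form -/
theorem exists_between_field_five_c_of
    (hA2C : ∀ (K : Subalgebra F4c M5), IsFieldSubalgebra 5 K → IsAdjointClosedFor (hermForm 5 F4c 2) K →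
      ∀ ζ : M5, ζ ∈ K → ζ ^ 11 = 1 → g1 ζ = 0 →
      ∃ u : GL (Fin 5) F4c, u ∈ GU 5 F4c 2 ∧ (u : M5) * Zc = ζ * (u : M5))
    (hB4 : IsFieldSubalgebra 5 K0 →
      subalgebraNormalizer K0 ⊓ SUg 5 F4c 2 < stabX ⊓ SUg 5 F4c 2 ∧ stabX ⊓ SUg 5 F4c 2 < SUg 5 F4c 2)
    (K : Subalgebra F4c M5) (hK : IsFieldSubalgebra 5 K)
    (hac : IsAdjointClosedFor (hermForm 5 F4c 2) K) :
    ∃ K' : Subgroup (GL (Fin 5) F4c), subalgebraNormalizer K ⊓ SUg 5 F4c 2 < K' ∧ K' < SUg 5 F4c 2 := by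
  obtain ⟨ζ, hζ, h11, hg⟩ := exists_root_g1 K hK
  have hgen := adjoin_eq_of_root K hK ζ hζ h11 hg
  obtain ⟨u, hu, hconj⟩ := hA2C K hK hac ζ hζ h11 hg
  have hK0 := isFieldSubalgebra_K0_of K hK ζ hgen u hconj
  obtain ⟨h1, h2⟩ := hB4 hK0
  have hN := normalizer_conj K ζ hgen u hconj
  have hS := SUg_map_conj u hu
  refine ⟨(stabX ⊓ SUg 5 F4c 2).map (MulAut.conj u).toMonoidHom, ?_, ?_⟩
  · have := map_lt_map_equiv (MulAut.conj u) h1
    rw [map_inf_equiv', ← hN, hS] at this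
    exact this
  · have := map_lt_map_equiv (MulAut.conj u) h2
    rw [hS] at this
    exact this

end Cfsg.Agent.Lib.Helper37.BHRSU5
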