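/-
BHRSU5-[T] (helper37, hedge): transfer of `exists_between_field_five_c` from the computable field `F4c` to an abstract field with four elements.
The transfer itself is stated generally (`_of` form): it takes the statement over `F4c` as a hypothesis.
-/
import Mathlib
import Cfsg.Prelude.Def_GeometricClasses
import Cfsg.Prelude.Def_ClassicalGeometry
import Cfsg.Agent.Lib.Helper37.BHRSU5.Defs

set_option autoImplicit false

namespace Cfsg.Agent.Lib.Helper37.BHRSU5

open Cfsg Cfsg.Geo Cfsg.Agent.Lib.Helper37.BHRSU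
open scoped MatrixGroups Matrix

namespace Transfer

variable {F : Type*} [Field F] (e : F4c ≃+* F)

/-- the induced isomorphism of matrix rings -/
noncomputable def mE : M5 ≃+* Matrix (Fin 5) (Fin 5) F := RingEquiv.mapMatrix e

/-- the induced isomorphism `GL_5(F4c) ≃* GL_5(F)` -/
noncomputable def gE : GL (Fin 5) F4c ≃* GL (Fin 5) F := Units.mapEquiv (mE e).toMulEquiv

theorem mE_apply (M : M5) : mE e M = M.map e := rfl

theorem gE_coe (g : GL (Fin 5) F4c) : ((gE e g : GL (Fin 5) F) : Matrix (Fin 5) (Fin 5) F) = (g : M5).map e := rfl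

theorem gE_symm_coe (g : GL (Fin 5) F) :
    ((gE e).symm g : M5) = (g : Matrix (Fin 5) (Fin 5) F).map e.symm := rfl

theorem map_map_symm (M : Matrix (Fin 5) (Fin 5) F) : (M.map e.symm).map e = M := by
  ext i j; simp

theorem map_symm_map (M : M5) : (M.map e).map e.symm = M := by
  ext i j; simp

theorem map_mulVec (M : M5) (u : Fin 5 → F4c) : (M.map e) *ᵥ (fun i => e (u i)) = fun i => e ((M *ᵥ u) i) := by
  ext i
  simp only [Matrix.mulVec, dotProduct, Matrix.map_apply, map_sum, map_mul]

theorem hermForm_map (u x : Fin 5 → F4c) :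
    hermForm 5 F 2 (fun i => e (u i)) (fun i => e (x i)) = e (hermForm 5 F4c 2 u x) := by
  unfold hermForm
  simp only [map_sum, map_mul, map_pow]

/-- every vector over `F` comes from `F4c` -/
theorem vec_surj (u : Fin 5 → F) : ∃ u' : Fin 5 → F4c, u = fun i => e (u' i) :=
  ⟨fun i => e.symm (u i), by ext i; simp⟩

theorem mem_GU_iff (g : GL (Fin 5) F4c) : gE e g ∈ GU 5 F 2 ↔ g ∈ GU 5 F4c 2 := by
  constructor
  · intro h u x
    have := h (fun i => e (u i)) (fun i => e (x i))
    simp only [Units.coeHom_apply, gE_coe, map_mulVec, hermForm_map] at this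
    exact e.injective this
  · intro h u x
    obtain ⟨u', rfl⟩ := vec_surj e u
    obtain ⟨x', rfl⟩ := vec_surj e x
    have := h u' x'
    simp only [Units.coeHom_apply] at this
    simp only [Units.coeHom_apply, gE_coe, map_mulVec, hermForm_map, this]

theorem mem_SL_iff' {R : Type*} [Field R] {n : ℕ} (g : GL (Fin n) R) :
    g ∈ specialLinear (Fin n) R ↔ (g : Matrix (Fin n) (Fin n) R).det = 1 := by
  unfold specialLinear
  rw [MonoidHom.mem_ker, Units.ext_iff]
  rfl

theorem mem_SL_iff (g : GL (Fin 5) F4c) : gE e g ∈ specialLinear (Fin 5) F ↔ g ∈ specialLinear (Fin 5) F4c := by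
  have hdet : ((gE e g : GL (Fin 5) F) : Matrix (Fin 5) (Fin 5) F).det = e ((g : M5).det) := by
    rw [gE_coe]
    exact (RingHom.map_det e.toRingHom (g : M5)).symm
  rw [mem_SL_iff', mem_SL_iff', hdet]
  constructor
  · intro h1
    exact e.injective (by rw [h1, map_one])
  · intro h2
    rw [h2, map_one]

theorem map_SUg : (SUg 5 F4c 2).map (gE e).toMonoidHom = SUg 5 F 2 := by
  ext g
  constructor
  · rintro ⟨g', hg', rfl⟩
    exact ⟨(mem_GU_iff e g').mpr hg'.1, (mem_SL_iff e g').mpr hg'.2⟩
  · intro hg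
    have h1 : gE e ((gE e).symm g) = g := by simp
    have hm1 : (gE e).symm g ∈ GU 5 F4c 2 := by
      rw [← mem_GU_iff e, h1]; exact hg.1
    have hm2 : (gE e).symm g ∈ specialLinear (Fin 5) F4c := by
      rw [← mem_SL_iff e, h1]; exact hg.2
    have hmem : (gE e).symm g ∈ SUg 5 F4c 2 := ⟨hm1, hm2⟩
    exact Subgroup.mem_map.mpr ⟨(gE e).symm g, hmem, h1⟩

/-- the pulled-back subalgebra -/
noncomputable def Kc (K : Subalgebra F (Matrix (Fin 5) (Fin 5) F)) : Subalgebra F4c M5 where
  carrier := {M | M.map e ∈ K}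
  mul_mem' := by
    intro a b ha hb
    have : (a * b).map e = a.map e * b.map e := Matrix.map_mul
    show (a * b).map e ∈ K
    rw [this]
    exact K.mul_mem ha hb
  one_mem' := by
    show (1 : M5).map e ∈ K
    rw [Matrix.map_one _ (map_zero e) (map_one e)]
    exact K.one_mem
  add_mem' := by
    intro a b ha hb
    show (a + b).map e ∈ K
    rw [Matrix.map_add _ (map_add e)]
    exact K.add_mem ha hb
  zero_mem' := by
    show (0 : M5).map e ∈ K
    rw [Matrix.map_zero _ (map_zero e)]
    exact K.zero_mem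
  algebraMap_mem' := by
    intro c
    show (algebraMap F4c M5 c).map e ∈ K
    have : (algebraMap F4c M5 c).map e = algebraMap F (Matrix (Fin 5) (Fin 5) F) (e c) := by
      ext i j
      simp [Matrix.algebraMap_matrix_apply]
      split_ifs <;> simp
    rw [this]
    exact K.algebraMap_mem _

theorem mem_Kc (K : Subalgebra F (Matrix (Fin 5) (Fin 5) F)) (M : M5) : M ∈ Kc e K ↔ M.map e ∈ K := Iff.rfl

theorem map_normalizer (K : Subalgebra F (Matrix (Fin 5) (Fin 5) F)) :
    (subalgebraNormalizer (Kc e K)).map (gE e).toMonoidHom = subalgebraNormalizer K := by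
  have key : ∀ g : GL (Fin 5) F4c, gE e g ∈ subalgebraNormalizer K ↔ g ∈ subalgebraNormalizer (Kc e K) := by
    intro g
    have hinv : (((gE e g)⁻¹ : GL (Fin 5) F) : Matrix (Fin 5) (Fin 5) F) = ((g⁻¹ : GL (Fin 5) F4c) : M5).map e := by
      rw [← map_inv, gE_coe]
    constructor
    · intro h k
      have := h (k.map e)
      rw [gE_coe, hinv, ← Matrix.map_mul, ← Matrix.map_mul] at this
      exact this
    · intro h k
      have := h (k.map e.symm)
      rw [mem_Kc, mem_Kc, map_map_symm] at this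
      rw [this, gE_coe, hinv, Matrix.map_mul, Matrix.map_mul, map_map_symm]
  ext g
  constructor
  · rintro ⟨g', hg', rfl⟩
    exact (key g').mpr hg'
  · intro hg
    have h1 : gE e ((gE e).symm g) = g := by simp
    have hmem : (gE e).symm g ∈ subalgebraNormalizer (Kc e K) := by
      rw [← key, h1]; exact hg
    exact Subgroup.mem_map.mpr ⟨(gE e).symm g, hmem, h1⟩

theorem map_one_symm : ((1 : Matrix (Fin 5) (Fin 5) F).map e.symm) = (1 : M5) :=
  Matrix.map_one _ (map_zero e.symm) (map_one e.symm)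

theorem map_eq_zero_iff (x : M5) : x.map e = 0 ↔ x = 0 := by
  constructor
  · intro h0
    have h := congrArg (fun M : Matrix (Fin 5) (Fin 5) F => M.map e.symm) h0
    simp only [map_symm_map] at h
    rw [h]
    exact Matrix.map_zero _ (map_zero e.symm)
  · rintro rfl
    exact Matrix.map_zero _ (map_zero e)

theorem map_inj' (x y : M5) (h : x.map e = y.map e) : x = y := by
  have h2 := congrArg (fun M : Matrix (Fin 5) (Fin 5) F => M.map e.symm) h
  simpa only [map_symm_map] using h2

/-- the pulled-back subalgebra is in bijection with `K` -/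
noncomputable def KcEquiv (K : Subalgebra F (Matrix (Fin 5) (Fin 5) F)) : Kc e K ≃ K where
  toFun x := ⟨x.1.map e, x.2⟩
  invFun y := ⟨y.1.map e.symm, by rw [mem_Kc, map_map_symm]; exact y.2⟩
  left_inv x := Subtype.ext (map_symm_map e x.1)
  right_inv y := Subtype.ext (map_map_symm e y.1)

theorem isFieldSubalgebra_Kc [Fintype F] (hF : Fintype.card F = 4)
    (K : Subalgebra F (Matrix (Fin 5) (Fin 5) F)) (hK : IsFieldSubalgebra 5 K) :
    IsFieldSubalgebra 5 (Kc e K) := by
  refine ⟨?_, ?_, ?_⟩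
  · intro x hx y hy
    have h := hK.comm _ hx _ hy
    rw [← Matrix.map_mul, ← Matrix.map_mul] at h
    exact map_inj' e _ _ h
  · intro x hx hx0
    have hx0' : x.map e ≠ 0 := fun h0 => hx0 ((map_eq_zero_iff e x).mp h0)
    obtain ⟨y, hy, hxy⟩ := hK.inv _ hx hx0'
    refine ⟨y.map e.symm, ?_, ?_⟩
    · rw [mem_Kc, map_map_symm]; exact hy
    · apply map_inj' e
      rw [Matrix.map_mul, map_map_symm, hxy]
      exact (Matrix.map_one _ (map_zero e) (map_one e)).symm
  · have h1 : Nat.card (Kc e K) = Nat.card K := Nat.card_congr (KcEquiv e K)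
    have h2 : Nat.card K = 4 ^ 5 := by
      rw [Module.natCard_eq_pow_finrank (K := F) (V := K), hK.finrank_eq, Nat.card_eq_fintype_card, hF]
    have h3 : Nat.card (Kc e K) = 4 ^ Module.finrank F4c (Kc e K) := by
      rw [Module.natCard_eq_pow_finrank (K := F4c) (V := Kc e K), Nat.card_eq_fintype_card,
        Cfsg.Agent.Lib.Helper56.F4.card]
    rw [h1, h2] at h3
    exact (Nat.pow_right_injective (by norm_num : 2 ≤ 4) h3).symm

theorem adjointClosed_Kc (K : Subalgebra F (Matrix (Fin 5) (Fin 5) F))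
    (hac : IsAdjointClosedFor (hermForm 5 F 2) K) : IsAdjointClosedFor (hermForm 5 F4c 2) (Kc e K) := by
  intro k hk
  obtain ⟨k', hk', hadj⟩ := hac _ hk
  refine ⟨k'.map e.symm, by rw [mem_Kc, map_map_symm]; exact hk', ?_⟩
  intro u x
  have h := hadj (fun i => e (u i)) (fun i => e (x i))
  rw [map_mulVec, hermForm_map] at h
  have h2 : k' *ᵥ (fun i => e (x i)) = fun i => e (((k'.map e.symm) *ᵥ x) i) := by
    rw [← map_mulVec, map_map_symm]
  rw [h2, hermForm_map] at h
  exact e.injective h

theorem map_lt_map {A B : Subgroup (GL (Fin 5) F4c)} (h : A < B) :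
    A.map (gE e).toMonoidHom < B.map (gE e).toMonoidHom := by
  refine lt_of_le_of_ne (Subgroup.map_mono h.le) ?_
  intro heq
  exact h.ne (Subgroup.map_injective (gE e).injective heq)

theorem exists_between_of_equiv (e : F4c ≃+* F) [Fintype F] (hF : Fintype.card F = 4)
    (hc : ∀ (K : Subalgebra F4c M5), IsFieldSubalgebra 5 K → IsAdjointClosedFor (hermForm 5 F4c 2) K →
      ∃ K' : Subgroup (GL (Fin 5) F4c), subalgebraNormalizer K ⊓ SUg 5 F4c 2 < K' ∧ K' < SUg 5 F4c 2)
    (K : Subalgebra F (Matrix (Fin 5) (Fin 5) F)) (hK : IsFieldSubalgebra 5 K)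
    (hac : IsAdjointClosedFor (hermForm 5 F 2) K) :
    ∃ K' : Subgroup (GL (Fin 5) F), subalgebraNormalizer K ⊓ SUg 5 F 2 < K' ∧ K' < SUg 5 F 2 := by
  obtain ⟨K'c, h1, h2⟩ := hc (Kc e K) (isFieldSubalgebra_Kc e hF K hK) (adjointClosed_Kc e K hac)
  refine ⟨K'c.map (gE e).toMonoidHom, ?_, ?_⟩
  · have hlt := map_lt_map e h1
    rw [Subgroup.map_inf (subalgebraNormalizer (Kc e K)) (SUg 5 F4c 2) (gE e).toMonoidHom (gE e).injective,
      map_normalizer, map_SUg] at hlt
    exact hlt
  · have hlt := map_lt_map e h2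
    rw [map_SUg] at hlt
    exact hlt

end Transfer

open Transfer

/-- BHRSU5-[T], `_of` form: the statement over `F4c` implies the statement over every field with four elements. -/
theorem exists_between_field_five_of
    (hc : ∀ (K : Subalgebra F4c M5), IsFieldSubalgebra 5 K → IsAdjointClosedFor (hermForm 5 F4c 2) K →
      ∃ K' : Subgroup (GL (Fin 5) F4c), subalgebraNormalizer K ⊓ SUg 5 F4c 2 < K' ∧ K' < SUg 5 F4c 2)
    {F : Type*} [Field F] [Fintype F] (hF : Fintype.card F = 4)
    (K : Subalgebra F (Matrix (Fin 5) (Fin 5) F)) (hK : IsFieldSubalgebra 5 K)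
    (hac : IsAdjointClosedFor (hermForm 5 F 2) K) :
    ∃ K' : Subgroup (GL (Fin 5) F), subalgebraNormalizer K ⊓ SUg 5 F 2 < K' ∧ K' < SUg 5 F 2 := by
  have hcard : Fintype.card F4c = Fintype.card F := by rw [hF]; exact Cfsg.Agent.Lib.Helper56.F4.card
  obtain ⟨e⟩ : Nonempty (F4c ≃+* F) := ⟨FiniteField.ringEquivOfCardEq hcard⟩
  exact exists_between_of_equiv e hF hc K hK hac

end Cfsg.Agent.Lib.Helper37.BHRSU5
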