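/-
BHRSU5 (helper37): the exact statements of [B4] `between_K0`, [ASM-C] `exists_between_field_five_c` and [T] `exists_between_field_five`,
assembled from the modules of helper34, helper36, helper61, helper66, helper73, helper93.
-/
import Mathlib
import Cfsg.Prelude.Def_GeometricClasses
import Cfsg.Prelude.Def_ClassicalGeometry
import Cfsg.Agent.Lib.Helper37.BHRSU5.Defs
import Cfsg.Agent.Lib.Helper37.BHRSU5.AsmC
import Cfsg.Agent.Lib.Helper37.BHRSU5.Transfer
import Cfsg.Agent.Lib.Helper36.Bhrsu5UCrit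
import Cfsg.Agent.Lib.Helper36.Bhrsu5A2C
import Cfsg.Agent.Lib.Helper61.Bhrsu5B3
import Cfsg.Agent.Lib.Helper66.Bhrsu5B4Of
import Cfsg.Agent.Lib.Helper93.Bhrsu5CX66

set_option autoImplicit false

namespace Cfsg.Agent.Lib.Helper37.BHRSU5

open Cfsg Cfsg.Geo Cfsg.Agent.Lib.Helper37.BHRSU Cfsg.Agent.Lib.Helper70.AschU
open scoped MatrixGroups Matrix

/-- BHRSU5-[B4] -/
theorem between_K0 (hK0 : IsFieldSubalgebra 5 K0) :
    subalgebraNormalizer K0 ⊓ SUg 5 F4c 2 < stabX ⊓ SUg 5 F4c 2 ∧ stabX ⊓ SUg 5 F4c 2 < SUg 5 F4c 2 :=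
  Cfsg.Agent.Lib.Helper66.Bhrsu5B4.between_K0_of hK0 (normalizer_K0_le hK0) ZG_mem_stabX PG_mem_stabX SG_mem_stabX
    TG_not_mem_stabX mem_SUg_iff

/-- BHRSU5-[ASM-C] -/
theorem exists_between_field_five_c (K : Subalgebra F4c M5) (hK : IsFieldSubalgebra 5 K)
    (hac : IsAdjointClosedFor (hermForm 5 F4c 2) K) :
    ∃ K' : Subgroup (GL (Fin 5) F4c), subalgebraNormalizer K ⊓ SUg 5 F4c 2 < K' ∧ K' < SUg 5 F4c 2 :=
  exists_between_field_five_c_of exists_gu_conj between_K0 K hK hac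

/-- BHRSU5-[T] -/
theorem exists_between_field_five {F : Type*} [Field F] [Fintype F] (hF : Fintype.card F = 4)
    (K : Subalgebra F (Matrix (Fin 5) (Fin 5) F)) (hK : IsFieldSubalgebra 5 K)
    (hac : IsAdjointClosedFor (hermForm 5 F 2) K) :
    ∃ K' : Subgroup (GL (Fin 5) F), subalgebraNormalizer K ⊓ SUg 5 F 2 < K' ∧ K' < SUg 5 F 2 :=
  exists_between_field_five_of exists_between_field_five_c hF K hK hac

end Cfsg.Agent.Lib.Helper37.BHRSU5
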